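import Cfsg.Agent.H306.AbSolv
import Cfsg.Agent.Walter.PairsRot

/-!
# Simple groups with elementary abelian Sylow 2-subgroups of order 8 and solvable involution centralizers (helper306)

`|N(S) : C(S)| = 7`. Walter's theorem is a hypothesis.
-/

set_option autoImplicit false

namespace Cfsg.Agent.H306.AbEight

open Subgroup Cfsg
open Cfsg.Agent.Walter
open Cfsg.Agent.Walter.Types
open Cfsg.Agent.H306.AbSolv

universe u

theorem card_ne_one {X : Type*} [Group X] [Finite X] (V : Subgroup X) :
    Nat.card {s : X | s ∈ V ∧ s ≠ 1} = Nat.card V - 1 := by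
  have h1 : {s : X | s ∈ V ∧ s ≠ 1} = (V : Set X) \ {1} := by
    ext s; simp
  rw [h1, Nat.card_coe_set_eq, Set.ncard_sdiff_singleton_of_mem (one_mem V)]
  rfl

theorem relIndex_of_trans {X : Type*} [Group X] [Finite X] {N V : Subgroup X}
    (hN : ∀ n ∈ N, ∀ s ∈ V, n * s * n⁻¹ ∈ V) {v : X} (hv : v ∈ V)
    (hv1 : v ≠ 1) (htr : ∀ s ∈ V, s ≠ 1 → ∃ n ∈ N, n * v * n⁻¹ = s) :
    (N ⊓ centralizer ({v} : Set X)).relIndex N = Nat.card V - 1 := by
  let act : MulAction N X := MulAction.compHom X ((MulAut.conj (G := X)).comp N.subtype)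
  have hact : ∀ (n : N) (x : X), n • x = (n : X) * x * (n : X)⁻¹ := fun n x => rfl
  have h1 : MulAction.stabilizer N v = (N ⊓ centralizer ({v} : Set X)).subgroupOf N := by
    ext n
    rw [MulAction.mem_stabilizer_iff, hact, mem_subgroupOf, mem_inf,
      mem_centralizer_singleton_iff, mul_inv_eq_iff_eq_mul]
    exact ⟨fun hh => ⟨n.2, hh⟩, fun hh => hh.2⟩
  have h2 : MulAction.orbit N v = {s : X | s ∈ V ∧ s ≠ 1} := by
    ext s
    constructor
    · rintro ⟨n, rfl⟩
      refine ⟨hN n n.2 v hv, ?_⟩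
      intro hh
      have : (n : X) * v * (n : X)⁻¹ = 1 := hh
      apply hv1
      simpa [mul_inv_eq_iff_eq_mul] using this
    · rintro ⟨hs, hs1⟩
      obtain ⟨n, hn, hns⟩ := htr s hs hs1
      exact ⟨⟨n, hn⟩, hns⟩
  rw [relIndex, ← h1, MulAction.index_stabilizer, h2]
  exact card_ne_one V

theorem main (hW : WalterThm.{u}) {G : Type u} [Group G] [Finite G]
    [IsSimpleGroup G] (hG : ¬ IsMulCommutative G) (S : Sylow 2 G)
    (hS : Cfsg.IsElementaryAbelian 2 (S : Subgroup G)) (hS8 : Nat.card ↥(S : Subgroup G) = 8)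
    (hC : ∀ t : G, orderOf t = 2 → Group.IsSolvable ↥(Subgroup.centralizer ({t} : Set G))) :
    (Subgroup.centralizer ((S : Subgroup G) : Set G)).relIndex
      (Subgroup.normalizer ((S : Subgroup G) : Set G)) = 7 := by
  have hcomm := Main.comm_of_isMulCommutative hS.1
  have hWT : WType G := hW G inferInstance hG S hcomm
  rcases TypeSylow.of_card_eight hWT S hS8 with ⟨F, i1, i2, hF, ⟨e⟩⟩ | h
  · obtain ⟨-, hc, -⟩ := PSLFacts.even_facts (K := G) (n := 3) (by norm_num) (by rw [hF]; norm_num) e S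
    have hna : ∃ a b : G, a * b ≠ b * a := by
      by_contra hno
      push Not at hno
      exact hG ⟨⟨hno⟩⟩
    obtain ⟨v, hv, hv1⟩ : ∃ v ∈ (S : Subgroup G), v ≠ 1 := by
      by_contra hno
      push Not at hno
      have : (S : Subgroup G) = ⊥ := eq_bot_iff.2 (fun x hx => hno x hx)
      rw [this, card_bot] at hS8
      omega
    have hCS : centralizer ((S : Subgroup G) : Set G) = S := by
      apply le_antisymm
      · exact (centralizer_le (Set.singleton_subset_iff.2 hv)).trans (hc v hv hv1).le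
      · intro x hx
        rw [mem_centralizer_iff]
        exact fun y hy => hcomm y hy x hx
    have h1 := relIndex_of_trans (N := normalizer ((S : Subgroup G) : Set G)) (V := (S : Subgroup G))
      (fun n hn s hs => (mem_normalizer_iff.1 hn s).1 hs) hv hv1
      (fun s hs hs1 => PairsRot.exists_normalizer_conj hWT hna S v hv hv1 s hs hs1)
    rw [hc v hv hv1, inf_eq_right.2 Subgroup.le_normalizer, hS8] at h1
    rw [hCS, h1]
  · exact (not_isJR hC h).elim

end Cfsg.Agent.H306.AbEight
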