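import Cfsg.Prelude.Def_CaseTheorems
import Cfsg.Agent.Walter.Main
import Cfsg.Agent.LThree.Red
import Cfsg.Agent.ClassicalGeometry.PSL2Solvable

/-!
# Abelian Sylow 2-subgroups and solvable centralizers of involutions (helper306)

`exists_normal_simple`: `O(X) = 1`, abelian Sylow 2-subgroups, `C(t)` solvable for every involution `t`, `X` not solvable:
`X` has a normal simple subgroup `K ≅ PSL(2, q)`, `q ≡ 3, 5 mod 8` or `q` even, with `C_X(K) = 1`.

The inputs (the odd order theorem, Walter's theorem) are hypotheses.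
-/

set_option autoImplicit false

namespace Cfsg.Agent.H306.AbSolv

open Subgroup Cfsg
open Cfsg.Agent.SignalizersComponents
open Cfsg.Agent.SignalizersComponents.Components
open Cfsg.Agent.Walter
open Cfsg.Agent.Walter.Types

universe u

/-- all finite groups of odd order (in the universe `u`) are solvable -/
def OddSolv : Prop := ∀ (Y : Type u) [Group Y] [Finite Y], Odd (Nat.card Y) → Group.IsSolvable Y

/-- Walter's theorem for simple groups -/
def WalterThm : Prop :=
  ∀ (K : Type u) [Group K] [Finite K], IsSimpleGroup K → ¬ IsMulCommutative K →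
    ∀ S : Sylow 2 K, (∀ a ∈ (S : Subgroup K), ∀ b ∈ (S : Subgroup K), a * b = b * a) → WType K

theorem isSolvable_of_le {X : Type*} [Group X] {H K : Subgroup X} (h : H ≤ K) (hK : Group.IsSolvable K) :
    Group.IsSolvable H :=
  Group.isSolvable_of_isSolvable_injective (Subgroup.inclusion_injective h)

theorem exists_involution {X : Type*} [Group X] [Finite X] (H : Subgroup X) (h : 2 ∣ Nat.card H) :
    ∃ t ∈ H, orderOf t = 2 := by
  have : Fact (Nat.Prime 2) := ⟨Nat.prime_two⟩
  obtain ⟨t, ht⟩ := exists_prime_orderOf_dvd_card' (G := H) 2 h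
  exact ⟨t, t.2, by rw [← ht]; exact Subgroup.orderOf_coe t⟩

/-- groups of Janko-Ree type have a nonsolvable involution centralizer -/
theorem not_isJR {K : Type*} [Group K] [Finite K]
    (hC : ∀ t : K, orderOf t = 2 → Group.IsSolvable ↥(centralizer ({t} : Set K))) : ¬ IsJR K := by
  intro h
  obtain ⟨S⟩ : Nonempty (Sylow 2 K) := inferInstance
  have h8 := (TypeSylow.card_sylow_JR h S).1
  obtain ⟨-, F, i1, i2, -, h5, hc⟩ := h
  obtain ⟨t, -, ht⟩ := exists_involution (⊤ : Subgroup K) (by
    rw [Subgroup.card_top]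
    exact (Dvd.intro 4 (by rw [h8]; norm_num)).trans (S : Subgroup K).card_subgroup_dvd_card)
  obtain ⟨e⟩ := hc t ht
  have hs := hC t ht
  have h1 : Group.IsSolvable (Multiplicative (ZMod 2) × Matrix.ProjectiveSpecialLinearGroup (Fin 2) F) :=
    Group.isSolvable_of_surjective (f := e.toMonoidHom) e.surjective
  have h2 : Group.IsSolvable (Matrix.ProjectiveSpecialLinearGroup (Fin 2) F) :=
    Group.isSolvable_of_surjective (f := MonoidHom.snd (Multiplicative (ZMod 2)) (Matrix.ProjectiveSpecialLinearGroup (Fin 2) F))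
      Prod.snd_surjective
  exact ClassicalGeometry.PSL2Solvable.not_isSolvable_psl F (by omega) h2

variable {X : Type u} [Group X] [Finite X] {S : Sylow 2 X}

theorem exists_normal_simple (hodd : OddSolv.{u}) (hW : WalterThm.{u})
    (hO : pPrimeCore 2 X = ⊥)
    (hS : ∀ a ∈ (S : Subgroup X), ∀ b ∈ (S : Subgroup X), a * b = b * a)
    (hC : ∀ t : X, orderOf t = 2 → Group.IsSolvable ↥(centralizer ({t} : Set X)))
    (hns : ¬ Group.IsSolvable X) :
    ∃ K : Subgroup X, K.Normal ∧ (IsEvenType K ∨ IsOddType K) ∧ centralizer (K : Set X) = ⊥ := by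
  have : Fact (Nat.Prime 2) := ⟨Nat.prime_two⟩
  -- a component exists
  obtain ⟨K, hK⟩ : ∃ K : Subgroup X, IsComponent K := by
    by_contra hno
    have hl : layer X = ⊥ := by
      rw [layer, eq_bot_iff]
      exact sSup_le (fun K hK => (hno ⟨K, hK⟩).elim)
    have h1 := AbStruct.genFitting_eq hO
    rw [hl, sup_bot_eq] at h1
    have h2 := AbStruct.odd_index hO hS
    rw [h1] at h2
    have hn : (pCore 2 X).Normal := Lib.Cores.pCore_normal 2
    have h3 : Group.IsSolvable (pCore 2 X) := by
      have := (Lib.Cores.pCore_isPGroup (G := X) 2).isNilpotent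
      infer_instance
    have h4 : Group.IsSolvable (X ⧸ pCore 2 X) := hodd _ h2
    exact hns (Group.isSolvable_of_ker_le_range (pCore 2 X).subtype (QuotientGroup.mk' (pCore 2 X)) (by simp))
  -- an involution in it
  obtain ⟨t, htK, ht⟩ := exists_involution K (AbStruct.two_dvd_card hO hK)
  have hcent : ∀ {L : Subgroup X} {z : X}, IsQuasisimple L → orderOf z = 2 → ¬ L ≤ centralizer ({z} : Set X) := by
    intro L z hL hz hle
    exact quasisimple_not_isSolvable hL (isSolvable_of_le hle (hC z hz))
  have hcK : centralizer (K : Set X) ≤ centralizer ({t} : Set X) :=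
    centralizer_le (Set.singleton_subset_iff.2 htK)
  have huniq : ∀ L : Subgroup X, IsComponent L → L = K := by
    intro L hL
    by_contra hne
    have h1 := Cfsg.Agent.S1270.component_comm_of_ne hL hK hne
    rw [commutator_eq_bot_iff_le_centralizer] at h1
    exact hcent hL.2 ht (h1.trans hcK)
  have hlay : layer X = K := by
    rw [layer]
    apply le_antisymm
    · exact sSup_le (fun L hL => (huniq L hL).le)
    · exact le_sSup hK
  have hKn : K.Normal := by
    rw [← hlay]; exact LayerBasic.layer_normal X
  have hcore : pCore 2 X = ⊥ := by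
    by_contra hne
    have h1 : 2 ∣ Nat.card (pCore 2 X) := by
      obtain ⟨n, hn⟩ := (IsPGroup.iff_card (p := 2)).1 (Lib.Cores.pCore_isPGroup (G := X) 2)
      rcases Nat.eq_zero_or_pos n with h0 | h0
      · rw [h0, pow_zero] at hn
        exact absurd (Subgroup.eq_bot_of_card_eq _ hn) hne
      · rw [hn]; exact dvd_pow_self 2 h0.ne'
    obtain ⟨z, hz, hz2⟩ := exists_involution _ h1
    have h2 := AbStruct.pCore_le_centralizer_layer hO
    rw [hlay, le_centralizer_iff] at h2
    exact hcent hK.2 hz2 (h2.trans (centralizer_le (Set.singleton_subset_iff.2 hz)))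
  have hcb : centralizer (K : Set X) = ⊥ := by
    have h1 := AbStruct.genFitting_eq hO
    rw [hcore, bot_sup_eq, hlay] at h1
    rw [eq_bot_iff, ← h1]
    refine (TwoFusion.FStarControl.centralizer_genFitting_le_fitting).trans ?_
    rw [BalanceAux.fitting_eq_pCore 2 hO, hcore]
  obtain ⟨P, hP⟩ := AbStruct.exists_sylow S hK
  have hsimp := AbStruct.isSimpleGroup hO hS hK
  have hWT : WType K := by
    refine hW K hsimp (AbStruct.not_comm hK) P ?_
    rw [hP]
    exact AbStruct.comm_subgroupOf hS
  refine ⟨K, hKn, ?_, hcb⟩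
  rcases hWT with h | h | h
  · exact Or.inl h
  · exact Or.inr h
  · exfalso
    refine not_isJR ?_ h
    intro s hs
    have h1 : orderOf (s : X) = 2 := by rw [Subgroup.orderOf_coe, hs]
    have h2 := hC s h1
    have h3 : (centralizer ({s} : Set K)).map K.subtype ≤ centralizer ({(s : X)} : Set X) := by
      rintro _ ⟨y, hy, rfl⟩
      rw [SetLike.mem_coe, mem_centralizer_singleton_iff] at hy
      rw [mem_centralizer_singleton_iff]
      exact congrArg Subtype.val hy
    have h4 := isSolvable_of_le h3 h2
    exact Group.isSolvable_of_isSolvable_injective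
      (f := ((centralizer ({s} : Set K)).equivMapOfInjective K.subtype K.subtype_injective).toMonoidHom)
      (MulEquiv.injective _)

/-- the hypotheses pass to `G / O(G)` -/
theorem centralizer_quotient {G : Type*} [Group G] [Finite G]
    (hC : ∀ t : G, orderOf t = 2 → Group.IsSolvable ↥(centralizer ({t} : Set G))) (N : Subgroup G) [N.Normal]
    (hN : (Nat.card N).Coprime 2) (t : G ⧸ N) (ht : orderOf t = 2) :
    Group.IsSolvable ↥(centralizer ({t} : Set (G ⧸ N))) := by
  have hN' : Odd (Nat.card N) := Nat.coprime_two_right.1 hN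
  obtain ⟨s, hs, rfl⟩ := LThree.Red.exists_involution_lift N hN' ht
  rw [LThree.Red.centralizer_mk Nat.prime_two N hN hs]
  have := hC s hs
  exact Group.isSolvable_of_surjective (f := (QuotientGroup.mk' N).subgroupMap (centralizer ({s} : Set G)))
    ((QuotientGroup.mk' N).subgroupMap_surjective _)

/-- **Abelian Sylow 2-subgroups and solvable involution centralizers.** -/
theorem main (hodd : OddSolv.{u}) (hW : WalterThm.{u}) {G : Type u} [Group G] [Finite G]
    (S : Sylow 2 G) (hS : IsMulCommutative ↥(S : Subgroup G))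
    (hC : ∀ t : G, orderOf t = 2 → Group.IsSolvable ↥(Subgroup.centralizer ({t} : Set G))) :
    Group.IsSolvable G ∨ ∃ K : Subgroup (G ⧸ oddCore G), K.Normal ∧ (IsEvenType K ∨ IsOddType K) ∧
      centralizer (K : Set (G ⧸ oddCore G)) = ⊥ := by
  by_cases hs : Group.IsSolvable G
  · exact Or.inl hs
  right
  have hco : (Nat.card (oddCore G)).Coprime 2 := Lib.Cores.pPrimeCore_coprime 2
  have hn : (oddCore G).Normal := Lib.Cores.pPrimeCore_normal 2
  obtain ⟨T⟩ : Nonempty (Sylow 2 (G ⧸ oddCore G)) := inferInstance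
  have hT := TypeSylow.comm_of_surjective (Main.comm_of_isMulCommutative hS)
    (QuotientGroup.mk'_surjective (oddCore G)) T
  refine exists_normal_simple hodd hW (Lib.Cores.pPrimeCore_quotient_pPrimeCore 2) hT
    (centralizer_quotient hC _ hco) ?_
  intro h
  apply hs
  have h1 : Group.IsSolvable (oddCore G) := hodd _ (Nat.coprime_two_right.1 hco)
  exact Group.isSolvable_of_ker_le_range (oddCore G).subtype (QuotientGroup.mk' (oddCore G)) (by simp)

end Cfsg.Agent.H306.AbSolv
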